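import Mathlib
import Cfsg.Agent.Lib.Fitting.Minimal

/-!
# Average exponents of fixed-point subgroups in an irreducible abelian module

For a group `G` acting irreducibly and nontrivially on a finite abelian `p`-group `V`, the average
exponent of `|C_V(g)|` is at most half of that of `|V|` when the image is nilpotent and at most
three quarters of it when the image is solvable.
-/

set_option autoImplicit false
set_option linter.unusedSectionVars false

namespace Cfsg.Agent.PrimClass

variable {G V : Type*} [Group G] [CommGroup V] [Finite V] {p : ℕ} [Fact p.Prime]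
  (φ : G →* MulAut V)

/-- Fixed points of one element. -/
def fix (g : G) : Subgroup V where
  carrier := {v | φ g v = v}
  one_mem' := map_one _
  mul_mem' := fun {a b} (ha : φ g a = a) (hb : φ g b = b) => by
    show φ g (a * b) = a * b
    rw [map_mul, ha, hb]
  inv_mem' := fun {a} (ha : φ g a = a) => by
    show φ g a⁻¹ = a⁻¹
    rw [map_inv, ha]

theorem mem_fix {g : G} {v : V} : v ∈ fix φ g ↔ φ g v = v := Iff.rfl

/-- Common fixed points of a subgroup. -/
def fixAll (H : Subgroup G) : Subgroup V := ⨅ h ∈ H, fix φ h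

theorem mem_fixAll {H : Subgroup G} {v : V} : v ∈ fixAll φ H ↔ ∀ h ∈ H, φ h v = v := by
  simp [fixAll, Subgroup.mem_iInf, mem_fix]

theorem fix_congr {g h : G} (hgh : φ g = φ h) : fix φ g = fix φ h := by
  ext v; rw [mem_fix, mem_fix, hgh]

/-- Exponent of the order of a subgroup. -/
noncomputable def expo (p : ℕ) (W : Subgroup V) : ℕ := (Nat.card W).factorization p

theorem card_eq_pow (hV : IsPGroup p V) (W : Subgroup V) : Nat.card W = p ^ expo p W := by
  obtain ⟨n, hn⟩ := IsPGroup.iff_card.mp (hV.to_subgroup W)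
  rw [expo, hn, (Fact.out : p.Prime).factorization_pow, Finsupp.single_eq_same]

theorem expo_mono (hV : IsPGroup p V) {A B : Subgroup V} (h : A ≤ B) : expo p A ≤ expo p B := by
  have h2 := Subgroup.card_le_of_le h
  rwa [card_eq_pow hV A, card_eq_pow hV B,
    Nat.pow_le_pow_iff_right (Fact.out : p.Prime).one_lt] at h2

theorem expo_add_le (hV : IsPGroup p V) (A B : Subgroup V) :
    expo p A + expo p B ≤ expo p (⊤ : Subgroup V) + expo p (A ⊓ B) := by
  have h1 : Nat.card A * Nat.card B ≤ Nat.card (⊤ : Subgroup V) * Nat.card (A ⊓ B : Subgroup V) := by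
    let ψ : A × B →* (⊤ : Subgroup V) :=
      { toFun := fun x => ⟨(x.1 : V) / x.2, Subgroup.mem_top _⟩
        map_one' := Subtype.ext (by simp)
        map_mul' := fun x y => Subtype.ext (by
          simp only [Prod.fst_mul, Prod.snd_mul, Subgroup.coe_mul]
          exact (mul_div_mul_comm _ _ _ _)) }
    have h2 : Nat.card ψ.ker ≤ Nat.card (A ⊓ B : Subgroup V) := by
      refine Nat.card_le_card_of_injective
        (fun x => ⟨(x.1.1 : V), x.1.1.2, ?_⟩) ?_
      · have := congrArg Subtype.val (MonoidHom.mem_ker.mp x.2)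
        change (x.1.1 : V) / x.1.2 = 1 at this
        rw [div_eq_one.mp this]
        exact x.1.2.2
      · rintro ⟨⟨a, b⟩, hx⟩ ⟨⟨a', b'⟩, hy⟩ h
        have e1 := congrArg Subtype.val (MonoidHom.mem_ker.mp hx)
        have e2 := congrArg Subtype.val (MonoidHom.mem_ker.mp hy)
        change (a : V) / b = 1 at e1
        change (a' : V) / b' = 1 at e2
        have ha : (a : V) = a' :=
          congrArg (fun t : (A ⊓ B : Subgroup V) => (t : V)) h
        ext <;> simp [← div_eq_one.mp e1, ← div_eq_one.mp e2, ha]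
    have h3 := ψ.ker.card_mul_index
    rw [Subgroup.index_ker, Nat.card_prod] at h3
    rw [← h3, mul_comm]
    refine Nat.mul_le_mul ?_ h2
    exact Subgroup.card_le_card_group _
  rw [card_eq_pow hV A, card_eq_pow hV B, card_eq_pow hV ⊤, card_eq_pow hV (A ⊓ B), ← pow_add,
    ← pow_add, Nat.pow_le_pow_iff_right (Fact.out : p.Prime).one_lt] at h1
  exact h1

theorem zpow_fixed {z : G} {v : V} (h : φ z v = v) (m : ℤ) : φ (z ^ m) v = v := by
  have h1 : z ∈ (MulAction.stabilizer (MulAut V) v).comap φ := h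
  exact ((MulAction.stabilizer (MulAut V) v).comap φ).zpow_mem h1 m

theorem mul_apply' (a b : G) (v : V) : φ (a * b) v = φ a (φ b v) := by
  rw [map_mul]; rfl

/-- The fixed subgroups of the translates of `y` by powers of `z` are independent. -/
theorem sum_translates_le (hV : IsPGroup p V) {q : ℕ} (hq : q.Prime) (hqp : q ≠ p) {y z : G}
    (hyz : Commute (φ y) (φ z)) (R : Subgroup V) (hzR : ∀ v ∈ R, φ z v ∈ R)
    (hzq : ∀ v ∈ R, φ (z ^ q) v = v) (hfpf : ∀ v ∈ R, φ z v = v → v = 1) :
    ∑ i ∈ Finset.range q, expo p (R ⊓ fix φ (y * z ^ i)) ≤ expo p R := by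
  classical
  set f := φ z with hf
  have hpow : ∀ (k : ℕ) v, φ (z ^ k) v = (f ^ k) v := fun k v => by rw [map_pow]
  have hR : ∀ (k : ℕ), ∀ v ∈ R, (f ^ k) v ∈ R := by
    intro k
    induction k with
    | zero => intro v hv; simpa using hv
    | succ k ih =>
      intro v hv
      rw [pow_succ']
      exact hzR _ (ih v hv)
  have hmul : ∀ (i j : ℕ) (v : V), (f ^ (i + j)) v = (f ^ i) ((f ^ j) v) := fun i j v => by
    rw [pow_add]; rfl
  have hper : ∀ v ∈ R, ∀ k : ℕ, (f ^ (k * q)) v = v := by
    intro v hv k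
    induction k with
    | zero => simp
    | succ k ih => rw [Nat.succ_mul, hmul, ← hpow q, hzq v hv, ih]
  -- a product over a full period is fixed, hence trivial, unless the step is a multiple of `q`
  have hnorm : ∀ v ∈ R, ∀ m : ℕ, ¬ q ∣ m → ∏ k ∈ Finset.range q, (f ^ (m * k)) v = 1 := by
    intro v hv m hm
    set w := ∏ k ∈ Finset.range q, (f ^ (m * k)) v with hw
    have hwR : w ∈ R := R.prod_mem fun k _ => hR _ v hv
    have hfix : (f ^ m) w = w := by
      have e1 : (f ^ m) w = ∏ k ∈ Finset.range q, (f ^ (m * (k + 1))) v := by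
        rw [hw, map_prod]
        refine Finset.prod_congr rfl fun k _ => ?_
        rw [← hmul, mul_add, mul_one, add_comm]
      have e2 := Finset.prod_range_succ (fun k => (f ^ (m * k)) v) q
      have e3 := Finset.prod_range_succ' (fun k => (f ^ (m * k)) v) q
      rw [e2, ← e1] at e3
      rw [← hw] at e3
      simp only [mul_zero, pow_zero, MulAut.one_apply, hper v hv m] at e3
      exact (mul_right_cancel e3).symm
    refine hfpf w hwR ?_
    obtain ⟨t, -, ht⟩ := Nat.exists_mul_mod_eq_one_of_coprime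
      ((hq.coprime_iff_not_dvd.mpr hm).symm) hq.one_lt
    have hiter : ∀ j : ℕ, (f ^ (m * j)) w = w := by
      intro j
      induction j with
      | zero => simp
      | succ j ih => rw [mul_add, mul_one, hmul, hfix, ih]
    have h1 := hiter t
    rw [← Nat.div_add_mod (m * t) q, ht, mul_comm q, add_comm, hmul, hper w hwR, pow_one] at h1
    exact h1
  let C : Fin q → Subgroup V := fun i => R ⊓ fix φ (y * z ^ (i : ℕ))
  let Φ : (∀ i : Fin q, C i) → R := fun v =>
    ⟨∏ i, (v i : V), R.prod_mem fun i _ => (v i).2.1⟩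
  have hΦ : Function.Injective Φ := by
    intro u u' huu
    have hmain : ∀ w : Fin q → V, (∀ i, w i ∈ C i) → ∏ i, w i = 1 → ∀ j, w j = 1 := by
      intro w hw hprod j
      have hy : ∀ i, φ y (w i) = (f ^ (q - (i : ℕ))) (w i) := by
        intro i
        have h1 : φ y ((f ^ (i : ℕ)) (w i)) = w i := by
          rw [← hpow, ← mul_apply']; exact (hw i).2
        have h2 : (f ^ (i : ℕ)) (φ y (w i)) = w i := by
          have hc := congrArg (fun a : MulAut V => a (w i)) (hyz.pow_right (i : ℕ)).eq
          simp only [MulAut.mul_apply] at hc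
          rw [← hc]; exact h1
        have hcomm2 : ∀ k, (f ^ k) (φ y (w i)) = φ y ((f ^ k) (w i)) := fun k => by
          have hc := congrArg (fun a : MulAut V => a (w i)) (hyz.pow_right k).eq
          simp only [MulAut.mul_apply] at hc
          exact hc.symm
        have hc := congrArg (fun a : MulAut V => a ((f ^ (i : ℕ)) (w i)))
          (hyz.pow_right (q - (i : ℕ))).eq
        simp only [MulAut.mul_apply] at hc
        calc φ y (w i) = φ y ((f ^ (1 * q)) (w i)) := by rw [hper _ (hw i).1]
          _ = φ y ((f ^ (q - (i : ℕ) + (i : ℕ))) (w i)) := by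
              rw [one_mul, Nat.sub_add_cancel i.2.le]
          _ = (f ^ (q - (i : ℕ))) (φ y ((f ^ (i : ℕ)) (w i))) := by rw [hmul, hc]
          _ = _ := by rw [h1]
      have hk : ∀ k : ℕ, ∏ i : Fin q, (f ^ ((q - (i : ℕ)) * k)) (w i) = 1 := by
        intro k
        induction k with
        | zero => simpa using hprod
        | succ k ih =>
          have h1 := congrArg (φ y) ih
          rw [map_prod, map_one] at h1
          rw [← h1]
          refine Finset.prod_congr rfl fun i _ => ?_
          have hc := congrArg (fun a : MulAut V => a (w i))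
            (hyz.pow_right ((q - (i : ℕ)) * k)).eq
          simp only [MulAut.mul_apply] at hc
          rw [hc, hy i, ← hmul]
          congr 2
      have h2 : ∏ i : Fin q, ∏ k ∈ Finset.range q, (f ^ (((j : ℕ) + (q - (i : ℕ))) * k)) (w i) = 1 := by
        rw [Finset.prod_comm]
        refine Finset.prod_eq_one fun k _ => ?_
        have h1 := congrArg (f ^ ((j : ℕ) * k)) (hk k)
        rw [map_prod, map_one] at h1
        rw [← h1]
        refine Finset.prod_congr rfl fun i _ => ?_
        rw [← hmul, add_mul]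
      rw [Finset.prod_eq_single j ?_ (by simp)] at h2
      · rw [Nat.add_sub_cancel' j.2.le] at h2
        have e : ∀ k ∈ Finset.range q, (f ^ (q * k)) (w j) = w j := fun k _ => by
          rw [mul_comm]; exact hper _ (hw j).1 k
        rw [Finset.prod_congr rfl e, Finset.prod_const, Finset.card_range] at h2
        obtain ⟨n, hn⟩ := hV (w j)
        have hg : (w j) ^ Nat.gcd q (p ^ n) = 1 := pow_gcd_eq_one.mpr ⟨h2, hn⟩
        rwa [((Nat.coprime_primes hq Fact.out).mpr hqp).pow_right n, pow_one] at hg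
      · intro i _ hij
        refine hnorm _ (hw i).1 _ fun hd => hij (Fin.ext ?_)
        obtain ⟨c, hc⟩ := hd
        have := i.2
        have := j.2
        rcases Nat.lt_or_ge c 1 with hc' | hc'
        · rw [Nat.lt_one_iff.mp hc'] at hc; omega
        rcases Nat.lt_or_ge c 2 with hc2 | hc2
        · rw [show c = 1 by omega] at hc; omega
        · have : q * 2 ≤ q * c := Nat.mul_le_mul_left _ hc2
          omega
    have hval : ∏ i, (u i : V) = ∏ i, (u' i : V) := congrArg Subtype.val huu
    funext j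
    refine Subtype.ext (div_eq_one.mp ?_)
    exact hmain (fun i => (u i : V) / u' i) (fun i => (C i).div_mem (u i).2 (u' i).2)
      (by rw [Finset.prod_div_distrib, hval, div_self']) j
  have hle := Nat.card_le_card_of_injective Φ hΦ
  rw [Nat.card_pi, card_eq_pow hV R, Finset.prod_congr rfl fun i _ => card_eq_pow hV (C i),
    Finset.prod_pow_eq_pow_sum, Nat.pow_le_pow_iff_right (Fact.out : p.Prime).one_lt] at hle
  rw [Finset.sum_range]
  exact hle

variable [Fintype G]

/-- Summing over translates: `q` times the sum over the subgroup. -/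
theorem sum_subgroup_translates (N : Subgroup G) [Fintype N] (z : N) (q : ℕ) (F : G → ℕ) :
    ∑ n : N, ∑ i ∈ Finset.range q, F ((n : G) * (z : G) ^ i) = q * ∑ n : N, F (n : G) := by
  rw [Finset.sum_comm]
  have h : ∀ i ∈ Finset.range q, ∑ n : N, F ((n : G) * (z : G) ^ i) = ∑ n : N, F (n : G) :=
    fun i _ => Fintype.sum_equiv (Equiv.mulRight (z ^ i)) _ _ fun n => by simp
  rw [Finset.sum_congr rfl h, Finset.sum_const, Finset.card_range, smul_eq_mul]

/-- A subgroup with commutative image, of exponent prime to `p`, without common fixed points. -/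
theorem sum_abelian_le (hV : IsPGroup p V) (N : Subgroup G) [Fintype N]
    (hcomm : ∀ a ∈ N, ∀ b ∈ N, Commute (φ a) (φ b)) (hcop : ∀ a ∈ N, ¬ p ∣ orderOf (φ a)) :
    ∀ W : Subgroup V, (∀ a ∈ N, ∀ w ∈ W, φ a w ∈ W) → W ⊓ fixAll φ N = ⊥ →
      2 * ∑ n : N, expo p (W ⊓ fix φ (n : G)) ≤ Fintype.card N * expo p W := by
  suffices h : ∀ (k : ℕ) (W : Subgroup V), Nat.card W ≤ k → (∀ a ∈ N, ∀ w ∈ W, φ a w ∈ W) →
      W ⊓ fixAll φ N = ⊥ → 2 * ∑ n : N, expo p (W ⊓ fix φ (n : G)) ≤ Fintype.card N * expo p W from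
    fun W => h _ W le_rfl
  intro k
  induction k with
  | zero => intro W hW; exact absurd hW (Nat.not_le.mpr Nat.card_pos)
  | succ k ih =>
    intro W hW hinv hfree
    rcases eq_or_ne W ⊥ with rfl | hne
    · have h0 : expo p (⊥ : Subgroup V) = 0 := by simp [expo]
      simp [h0]
    obtain ⟨w₀, hw₀, hw₀1⟩ := (Subgroup.ne_bot_iff_exists_ne_one (H := W)).mp hne |>
      fun ⟨w, hw⟩ => (⟨(w : V), w.2, fun h => hw (Subtype.ext h)⟩ : ∃ w ∈ W, w ≠ 1)
    have hex : ∃ m, ∃ a ∈ N, orderOf (φ a) = m ∧ ∃ w ∈ W, φ a w ≠ w := by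
      by_contra! hcon
      refine hw₀1 (Subgroup.mem_bot.mp (hfree ▸ ⟨hw₀, (mem_fixAll φ).mpr fun a ha => ?_⟩))
      exact hcon _ a ha rfl w₀ hw₀
    classical
    obtain ⟨a, ha, hord, w₁, hw₁, hmov⟩ := Nat.find_spec hex
    have hm1 : orderOf (φ a) ≠ 1 := fun h => hmov (by rw [orderOf_eq_one_iff.mp h]; rfl)
    obtain ⟨q, hq, hqd⟩ := Nat.exists_prime_and_dvd hm1
    have hqp : q ≠ p := fun h => hcop a ha (h ▸ hqd)
    have hzq : ∀ v ∈ W, φ (a ^ q) v = v := by
      intro v hv
      by_contra h
      have hlt : orderOf (φ (a ^ q)) < orderOf (φ a) := by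
        rw [map_pow, orderOf_pow_of_dvd hq.ne_zero hqd]
        exact Nat.div_lt_self (orderOf_pos _) hq.one_lt
      exact Nat.find_min hex (hord ▸ hlt) ⟨a ^ q, N.pow_mem ha q, rfl, v, hv, h⟩
    let ψ : W →* V :=
      { toFun := fun v => φ a (v : V) / v
        map_one' := by simp
        map_mul' := fun u v => by
          simp only [Subgroup.coe_mul, map_mul]
          exact mul_div_mul_comm _ _ _ _ }
    set R := ψ.range with hR
    set W' := W ⊓ fix φ a with hW'
    have hψc : ∀ b ∈ N, ∀ v : V, φ b (φ a v) = φ a (φ b v) := fun b hb v => by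
      have := congrArg (fun f : MulAut V => f v) (hcomm b hb a ha).eq
      simpa only [MulAut.mul_apply] using this
    have hRW : R ≤ W := by
      rintro _ ⟨v, rfl⟩
      exact W.div_mem (hinv a ha _ v.2) v.2
    have hRinv : ∀ b ∈ N, ∀ r ∈ R, φ b r ∈ R := by
      rintro b hb _ ⟨v, rfl⟩
      refine ⟨⟨φ b v, hinv b hb _ v.2⟩, ?_⟩
      show φ a (φ b v) / φ b v = φ b (φ a v / v)
      rw [map_div, hψc b hb]
    have hfpf : ∀ r ∈ R, φ a r = r → r = 1 := by
      rintro _ ⟨v, rfl⟩ hr
      set r := φ a (v : V) / v with hrdef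
      change φ a r = r at hr
      show r = 1
      have hv' : φ a (v : V) = r * v := by rw [hrdef, div_mul_cancel]
      have hit : ∀ i : ℕ, φ (a ^ i) (v : V) = r ^ i * v := by
        intro i
        induction i with
        | zero => simp
        | succ i ih =>
          rw [pow_succ', mul_apply', ih, map_mul, map_pow, hr, hv', pow_succ]
          exact (mul_assoc _ _ _).symm
      have h1 := hit q
      rw [hzq _ v.2] at h1
      have h2 : r ^ q = 1 := mul_right_cancel (b := (v : V)) (by rw [one_mul]; exact h1.symm)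
      obtain ⟨n, hn⟩ := hV r
      have hg : r ^ Nat.gcd q (p ^ n) = 1 := pow_gcd_eq_one.mpr ⟨h2, hn⟩
      rwa [((Nat.coprime_primes hq Fact.out).mpr hqp).pow_right n, pow_one] at hg
    -- exactness along `ψ`
    have hsplit : ∀ U : Subgroup V, U ≤ W → ∀ T : Subgroup V, (∀ v ∈ U, φ a v / v ∈ T) →
        expo p U ≤ expo p (U ⊓ fix φ a) + expo p T := by
      intro U hU T hT
      let χ : U →* T :=
        { toFun := fun v => ⟨φ a (v : V) / v, hT _ v.2⟩
          map_one' := Subtype.ext (by simp)
          map_mul' := fun u v => Subtype.ext (by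
            simp only [Subgroup.coe_mul, map_mul]
            exact mul_div_mul_comm _ _ _ _) }
      have h3 := χ.ker.card_mul_index
      rw [Subgroup.index_ker] at h3
      have h4 : Nat.card χ.ker ≤ Nat.card (U ⊓ fix φ a : Subgroup V) := by
        refine Nat.card_le_card_of_injective (fun x => ⟨(x.1 : V), x.1.2, ?_⟩) ?_
        · have := congrArg Subtype.val (MonoidHom.mem_ker.mp x.2)
          exact div_eq_one.mp this
        · intro x y h
          exact Subtype.ext (Subtype.ext (congrArg Subtype.val h :))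
      have h5 : Nat.card U ≤ Nat.card (U ⊓ fix φ a : Subgroup V) * Nat.card T := by
        rw [← h3]; exact Nat.mul_le_mul h4 (Subgroup.card_le_card_group _)
      rw [card_eq_pow hV U, card_eq_pow hV T, card_eq_pow hV (U ⊓ fix φ a), ← pow_add,
        Nat.pow_le_pow_iff_right (Fact.out : p.Prime).one_lt] at h5
      exact h5
    have hcardW : expo p W' + expo p R ≤ expo p W := by
      have h3 := ψ.ker.card_mul_index
      rw [Subgroup.index_ker] at h3
      have h4 : Nat.card W' ≤ Nat.card ψ.ker := by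
        refine Nat.card_le_card_of_injective
          (fun x => ⟨⟨(x : V), x.2.1⟩, MonoidHom.mem_ker.mpr ?_⟩) ?_
        · show φ a (x : V) / x = 1
          rw [show φ a (x : V) = x from x.2.2, div_self']
        · intro x y h
          exact Subtype.ext (congrArg (fun t : ψ.ker => ((t : W) : V)) h)
      have h5 : Nat.card W' * Nat.card R ≤ Nat.card W := by
        rw [← h3]; exact Nat.mul_le_mul h4 le_rfl
      rw [card_eq_pow hV W', card_eq_pow hV R, card_eq_pow hV W, ← pow_add,
        Nat.pow_le_pow_iff_right (Fact.out : p.Prime).one_lt] at h5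
      exact h5
    have hlt : Nat.card W' < Nat.card W := by
      refine lt_of_le_of_ne (Subgroup.card_le_of_le inf_le_left) fun h => hmov ?_
      have : W' = W := Subgroup.eq_of_le_of_card_ge inf_le_left h.ge
      exact (this.ge hw₁).2
    have hIH := ih W' (by omega) (fun b hb w hw => ⟨hinv b hb w hw.1, by
        show φ a (φ b w) = φ b w
        rw [← hψc b hb, show φ a w = w from hw.2]⟩)
      (eq_bot_iff.mpr fun x hx => hfree ▸ ⟨hx.1.1, hx.2⟩)
    have hRsum : q * ∑ n : N, expo p (R ⊓ fix φ (n : G)) ≤ Fintype.card N * expo p R := by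
      rw [← sum_subgroup_translates N ⟨a, ha⟩ q (fun g => expo p (R ⊓ fix φ g))]
      refine (Finset.sum_le_card_nsmul _ _ (expo p R) fun n _ => ?_).trans_eq (by simp)
      exact sum_translates_le φ hV hq hqp (hcomm _ n.2 a ha) R (hRinv a ha)
        (fun v hv => hzq v (hRW hv)) hfpf
    have hterm : ∀ n : N, expo p (W ⊓ fix φ (n : G)) ≤
        expo p (W' ⊓ fix φ (n : G)) + expo p (R ⊓ fix φ (n : G)) := by
      intro n
      refine (hsplit _ inf_le_left (R ⊓ fix φ (n : G)) fun v hv => ⟨⟨⟨v, hv.1⟩, rfl⟩, ?_⟩).trans_eq ?_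
      · show φ (n : G) (φ a v / v) = φ a v / v
        rw [map_div, hψc _ n.2, show φ (n : G) v = v from hv.2]
      · rw [hW', inf_right_comm]
    have hsum := Finset.sum_le_sum fun n (_ : n ∈ Finset.univ) => hterm n
    rw [Finset.sum_add_distrib] at hsum
    have h2 : 2 * ∑ n : N, expo p (R ⊓ fix φ (n : G)) ≤ Fintype.card N * expo p R :=
      (Nat.mul_le_mul_right _ hq.two_le).trans hRsum
    have h3 := Nat.mul_le_mul_left (Fintype.card N) hcardW
    rw [mul_add] at h3
    omega

/-- Irreducibility of the action. -/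
def Irr : Prop := ∀ W : Subgroup V, (∀ g, ∀ w ∈ W, φ g w ∈ W) → W = ⊥ ∨ W = ⊤

theorem fixAll_invariant (H : Subgroup G) [H.Normal] (g : G) (v : V) (hv : v ∈ fixAll φ H) :
    φ g v ∈ fixAll φ H := by
  rw [mem_fixAll] at hv ⊢
  intro h hh
  have h1 := hv (g⁻¹ * h * g) (by
    have := ‹H.Normal›.conj_mem h hh g⁻¹
    rwa [inv_inv] at this)
  have h2 := congrArg (φ g) h1
  rwa [← mul_apply', ← mul_assoc, ← mul_assoc, mul_inv_cancel, one_mul, mul_apply'] at h2

/-- A normal subgroup with `p`-group image acts trivially on an irreducible module. -/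
theorem trivial_of_pgroup (hV : IsPGroup p V) [Nontrivial V] (hirr : Irr φ) (H : Subgroup G)
    [H.Normal] (hp : ∀ h ∈ H, ∃ k : ℕ, φ h ^ p ^ k = 1) : ∀ h ∈ H, φ h = 1 := by
  have hne : fixAll φ H ≠ ⊥ := by
    intro hbot
    have hP : IsPGroup p (H.map φ) := by
      rintro ⟨_, h, hh, rfl⟩
      obtain ⟨k, hk⟩ := hp h hh
      exact ⟨k, Subtype.ext (by simpa using hk)⟩
    have hdvd : p ∣ Nat.card V := by
      obtain ⟨n, hn⟩ := IsPGroup.iff_card.mp hV
      have hn0 : n ≠ 0 := by
        rintro rfl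
        rw [pow_zero] at hn
        exact absurd hn (Finite.one_lt_card (α := V)).ne'
      exact hn ▸ dvd_pow_self p hn0
    haveI : Finite (H.map φ) := Finite.of_injective _ Subtype.val_injective
    have h1 : (1 : V) ∈ MulAction.fixedPoints (H.map φ) V := fun a => map_one (a : MulAut V)
    obtain ⟨b, hb, hb1⟩ := hP.exists_fixed_point_of_prime_dvd_card_of_fixed_point V hdvd h1
    refine hb1 (Subgroup.mem_bot.mp (hbot ▸ (mem_fixAll φ).mpr fun h hh => ?_)).symm
    exact hb ⟨φ h, h, hh, rfl⟩
  have htop := (hirr _ fun g w hw => fixAll_invariant φ H g w hw).resolve_left hne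
  intro h hh
  ext v
  exact (mem_fixAll φ).mp (htop ▸ Subgroup.mem_top v) h hh

/-- Nilpotent image: the average is at most one half. -/
theorem sum_fix_nilpotent (hV : IsPGroup p V) [Nontrivial V] (hirr : Irr φ) (hnt : φ ≠ 1)
    (hnil : Group.IsNilpotent φ.range) :
    2 * ∑ g : G, expo p (fix φ g) ≤ Fintype.card G * expo p (⊤ : Subgroup V) := by
  classical
  haveI : Nontrivial φ.range := by
    rw [Subgroup.nontrivial_iff_ne_bot]
    exact fun h => hnt (φ.range_eq_bot_iff.mp h)
  haveI := hnil
  haveI : Nontrivial (Subgroup.center φ.range) := by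
    rw [Subgroup.nontrivial_iff_ne_bot]
    have h := Fitting.inf_center_ne_bot (G := φ.range) (N := ⊤) top_ne_bot
    rwa [top_inf_eq] at h
  obtain ⟨c, hc⟩ := exists_ne (1 : Subgroup.center φ.range)
  obtain ⟨q, hq, hqd⟩ := Nat.exists_prime_and_dvd (fun h => hc (orderOf_eq_one_iff.mp h))
  set z' := c ^ (orderOf c / q) with hz'
  have hz'o : orderOf z' = q := by
    rw [hz', orderOf_pow_of_dvd (Nat.div_ne_zero_iff_of_dvd hqd |>.mpr ⟨(orderOf_pos c).ne',
      hq.ne_zero⟩) (Nat.div_dvd_of_dvd hqd), Nat.div_div_self hqd (orderOf_pos c).ne']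
  obtain ⟨z, hz⟩ := MonoidHom.mem_range.mp (z' : φ.range).2
  have hzo : orderOf (φ z) = q := by
    rw [hz, Subgroup.orderOf_coe, Subgroup.orderOf_coe, hz'o]
  have hcen : ∀ g, Commute (φ g) (φ z) := fun g => by
    have := Subgroup.mem_center_iff.mp z'.2 ⟨φ g, g, rfl⟩
    have := congrArg Subtype.val this
    rw [hz]; exact this
  have hH : (fixAll φ ((Subgroup.zpowers (φ z)).comap φ)) = fix φ z := by
    ext v
    rw [mem_fixAll, mem_fix]
    refine ⟨fun h => h z (Subgroup.mem_zpowers _), fun h g hg => ?_⟩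
    obtain ⟨m, hm⟩ := Subgroup.mem_zpowers_iff.mp hg
    rw [← hm, ← map_zpow]
    exact zpow_fixed φ h m
  haveI : ((Subgroup.zpowers (φ z)).comap φ).Normal := ⟨fun h hh g => by
    obtain ⟨m, hm⟩ := Subgroup.mem_zpowers_iff.mp hh
    refine Subgroup.mem_comap.mpr ?_
    rw [map_mul, map_mul, ← hm, map_inv, ((hcen g).zpow_right m).eq, mul_inv_cancel_right]
    exact Subgroup.zpow_mem _ (Subgroup.mem_zpowers _) m⟩
  have hqp : q ≠ p := by
    intro h
    have h1 := trivial_of_pgroup φ hV hirr ((Subgroup.zpowers (φ z)).comap φ) (fun g hg => by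
      obtain ⟨m, hm⟩ := Subgroup.mem_zpowers_iff.mp hg
      refine ⟨1, ?_⟩
      rw [← hm, pow_one, ← h, ← hzo, ← zpow_natCast, ← zpow_mul, mul_comm, zpow_mul, zpow_natCast,
        pow_orderOf_eq_one, one_zpow]) z (Subgroup.mem_zpowers _)
    rw [orderOf_eq_one_iff.mpr h1] at hzo
    exact hq.one_lt.ne hzo
  have hfpf : ∀ v ∈ (⊤ : Subgroup V), φ z v = v → v = 1 := by
    intro v _ hv
    rcases hirr _ (fun g w hw => fixAll_invariant φ ((Subgroup.zpowers (φ z)).comap φ) g w hw)
      with h | h
    · rw [hH] at h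
      exact Subgroup.mem_bot.mp (h ▸ hv)
    · rw [hH] at h
      have h1 : φ z = 1 := MulEquiv.ext fun w => (h ▸ Subgroup.mem_top w : w ∈ fix φ z)
      rw [orderOf_eq_one_iff.mpr h1] at hzo
      exact absurd hzo hq.one_lt.ne
  have hq' : q * ∑ g : G, expo p (fix φ g) ≤ Fintype.card G * expo p (⊤ : Subgroup V) := by
    have e := sum_subgroup_translates (⊤ : Subgroup G) ⟨z, Subgroup.mem_top z⟩ q
      (fun g => expo p (⊤ ⊓ fix φ g))
    simp only [top_inf_eq] at e
    have e1 : ∑ n : (⊤ : Subgroup G), expo p (fix φ (n : G)) = ∑ g : G, expo p (fix φ g) :=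
      Fintype.sum_equiv Subgroup.topEquiv.toEquiv _ _ fun n => rfl
    rw [e1] at e
    rw [← e]
    refine (Finset.sum_le_card_nsmul _ _ (expo p (⊤ : Subgroup V)) fun n _ => ?_).trans_eq
      (by rw [Finset.card_univ, smul_eq_mul, Fintype.card_congr Subgroup.topEquiv.toEquiv])
    have := sum_translates_le φ hV hq hqp (hcen (n : G)) ⊤ (fun v _ => Subgroup.mem_top _)
      (fun v _ => by rw [map_pow, ← hzo, pow_orderOf_eq_one]; rfl) hfpf
    simpa only [top_inf_eq] using this
  exact (Nat.mul_le_mul_right _ hq.two_le).trans hq'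

/-- Solvable image: the average is at most three quarters. -/
theorem sum_fix_solvable (hV : IsPGroup p V) [Nontrivial V] (hirr : Irr φ) (hnt : φ ≠ 1)
    (hsol : Group.IsSolvable φ.range) :
    4 * ∑ g : G, expo p (fix φ g) ≤ 3 * (Fintype.card G * expo p (⊤ : Subgroup V)) := by
  classical
  obtain ⟨A, hAn, hA1, hAc⟩ : ∃ A : Subgroup φ.range, A.Normal ∧ A ≠ ⊥ ∧
      ∀ a ∈ A, ∀ b ∈ A, a * b = b * a := by
    have hex : ∃ n, derivedSeries φ.range n = ⊥ := hsol.1
    have h0 : Nat.find hex ≠ 0 := by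
      intro h
      have := Nat.find_spec hex
      rw [h, derivedSeries_zero] at this
      exact hnt (φ.range_eq_bot_iff.mp (eq_bot_iff.mpr fun x hx => by
        have := this ▸ Subgroup.mem_top (⟨x, hx⟩ : φ.range)
        exact Subgroup.mem_bot.mpr (congrArg Subtype.val (Subgroup.mem_bot.mp this))))
    obtain ⟨n, hn⟩ := Nat.exists_eq_succ_of_ne_zero h0
    refine ⟨derivedSeries φ.range n, derivedSeries_normal _ n,
      fun h => Nat.find_min hex (by omega) h, fun a ha b hb => ?_⟩
    have hs := Nat.find_spec hex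
    rw [hn, derivedSeries_succ] at hs
    have h1 := Subgroup.mem_bot.mp (hs ▸ Subgroup.commutator_mem_commutator ha hb)
    exact commutatorElement_eq_one_iff_mul_comm.mp h1
  let N : Subgroup G := A.comap φ.rangeRestrict
  haveI : N.Normal := hAn.comap _
  have hN : ∀ a ∈ N, ∀ b ∈ N, Commute (φ a) (φ b) := fun a ha b hb =>
    congrArg Subtype.val (hAc _ ha _ hb)
  have hNnt : ¬ ∀ a ∈ N, φ a = 1 := by
    intro h
    refine hA1 (eq_bot_iff.mpr fun x hx => ?_)
    obtain ⟨g, hg⟩ := φ.rangeRestrict_surjective x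
    refine Subgroup.mem_bot.mpr (Subtype.ext ?_)
    rw [← hg]
    exact h g (Subgroup.mem_comap.mpr (hg ▸ hx))
  have hcop : ∀ a ∈ N, ¬ p ∣ orderOf (φ a) := by
    intro a ha hd
    let P : Subgroup G :=
      { carrier := {b | b ∈ N ∧ ∃ k : ℕ, φ b ^ p ^ k = 1}
        one_mem' := ⟨N.one_mem, 0, by simp⟩
        mul_mem' := fun {x y} ⟨hx, k, hk⟩ ⟨hy, l, hl⟩ => ⟨N.mul_mem hx hy, k + l, by
          rw [map_mul, (hN x hx y hy).mul_pow, pow_add, pow_mul, hk, one_pow, one_mul, mul_comm,
            pow_mul, hl, one_pow]⟩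
        inv_mem' := fun {x} ⟨hx, k, hk⟩ => ⟨N.inv_mem hx, k, by
          rw [map_inv, inv_pow, hk, inv_one]⟩ }
    haveI : P.Normal := ⟨fun x ⟨hx, k, hk⟩ g => ⟨‹N.Normal›.conj_mem x hx g, k, by
      rw [map_mul, map_mul, map_inv, conj_pow, hk, mul_one, mul_inv_cancel]⟩⟩
    have h := trivial_of_pgroup φ hV hirr P (fun b hb => hb.2) (a ^ (orderOf (φ a) / p))
      ⟨N.pow_mem ha _, 1, by
        rw [pow_one, map_pow, ← pow_mul, Nat.div_mul_cancel hd, pow_orderOf_eq_one]⟩
    rw [map_pow] at h
    exact absurd (orderOf_dvd_of_pow_eq_one h) (Nat.not_dvd_of_pos_of_lt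
      (Nat.div_pos (Nat.le_of_dvd (orderOf_pos _) hd) (Fact.out : p.Prime).pos)
      (Nat.div_lt_self (orderOf_pos _) (Fact.out : p.Prime).one_lt))
  have hfree : (⊤ : Subgroup V) ⊓ fixAll φ N = ⊥ := by
    rw [top_inf_eq]
    refine (hirr _ fun g w hw => fixAll_invariant φ N g w hw).resolve_right fun h => hNnt ?_
    exact fun a ha => MulEquiv.ext fun v => (mem_fixAll φ).mp (h ▸ Subgroup.mem_top v) a ha
  have hab := sum_abelian_le φ hV N hN hcop ⊤ (fun _ _ _ _ => Subgroup.mem_top _) hfree
  simp only [top_inf_eq] at hab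
  -- translates of a coset against one another
  set D := expo p (⊤ : Subgroup V) with hD
  set M := Fintype.card N with hM
  have hcoset : ∀ g : G, 4 * ∑ n : N, expo p (fix φ (g * n)) ≤ 3 * (M * D) := by
    intro g
    have hpair : ∀ n m : N, expo p (fix φ (g * n)) + expo p (fix φ (g * m)) ≤
        D + expo p (fix φ ((n⁻¹ * m : N) : G)) := by
      intro n m
      refine (expo_add_le hV _ _).trans (Nat.add_le_add_left (expo_mono hV fun v hv => ?_) _)
      show φ ((n⁻¹ * m : N) : G) v = v
      have h1 : φ (g * n) v = v := hv.1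
      have h2 : φ (g * m) v = v := hv.2
      have h3 := h2.trans h1.symm
      rw [mul_apply', mul_apply'] at h3
      rw [Subgroup.coe_mul, Subgroup.coe_inv, mul_apply', (φ g).injective h3, ← mul_apply',
        inv_mul_cancel, map_one]
      rfl
    have hinner : ∀ n : N, M * expo p (fix φ (g * n)) + ∑ m : N, expo p (fix φ (g * m)) ≤
        M * D + ∑ m : N, expo p (fix φ (m : G)) := by
      intro n
      have e : ∑ m : N, expo p (fix φ ((n⁻¹ * m : N) : G)) = ∑ m : N, expo p (fix φ (m : G)) :=
        Fintype.sum_equiv (Equiv.mulLeft n⁻¹) _ _ fun m => rfl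
      have h := Finset.sum_le_sum fun m (_ : m ∈ Finset.univ) => hpair n m
      rwa [Finset.sum_add_distrib, Finset.sum_add_distrib, Finset.sum_const, Finset.sum_const,
        Finset.card_univ, smul_eq_mul, smul_eq_mul, e] at h
    have h := Finset.sum_le_sum fun n (_ : n ∈ Finset.univ) => hinner n
    rw [Finset.sum_add_distrib, Finset.sum_add_distrib, Finset.sum_const, Finset.sum_const,
      Finset.card_univ, smul_eq_mul, smul_eq_mul, ← Finset.mul_sum, ← hM] at h
    have hpos : 0 < M := Fintype.card_pos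
    refine Nat.le_of_mul_le_mul_left (c := M) ?_ hpos
    have h' := Nat.mul_le_mul_left M hab
    have e2 : ∑ _x : N, ∑ m : N, expo p (fix φ (m : G)) = M * ∑ m : N, expo p (fix φ (m : G)) := by
      rw [Finset.sum_const, Finset.card_univ, smul_eq_mul]
    rw [e2] at h
    nlinarith
  have e1 : ∀ n : N, ∑ g : G, expo p (fix φ (g * n)) = ∑ g : G, expo p (fix φ g) := fun n =>
    Fintype.sum_equiv (Equiv.mulRight (n : G)) _ _ fun g => rfl
  have h := Finset.sum_le_sum fun g (_ : g ∈ Finset.univ) => hcoset g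
  rw [← Finset.mul_sum, Finset.sum_comm, Finset.sum_congr rfl fun n _ => e1 n, Finset.sum_const,
    Finset.sum_const, Finset.card_univ, Finset.card_univ, smul_eq_mul, smul_eq_mul, ← hM] at h
  refine Nat.le_of_mul_le_mul_left (c := M) ?_ Fintype.card_pos
  nlinarith

end Cfsg.Agent.PrimClass
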