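import Cfsg.Agent.PrimClass.Avg

/-!
# The average exponent of fixed points under a solvable irreducible group is at most one half

On the part of the module moved by a normal abelian subgroup, an element `x` and its translate
`x * a` have independent fixed points once the conjugates of `a` under `x` fix nothing.
-/

set_option autoImplicit false
set_option linter.unusedSectionVars false

namespace Cfsg.Agent.PrimClass

variable {G V : Type*} [Group G] [CommGroup V] [Finite V] {p : ℕ} [Fact p.Prime]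
  (φ : G →* MulAut V)

/-- Two disjoint subgroups inside a third one. -/
theorem expo_add_le_of_disjoint (hV : IsPGroup p V) {A B C : Subgroup V} (hA : A ≤ C) (hB : B ≤ C)
    (h : A ⊓ B = ⊥) : expo p A + expo p B ≤ expo p C := by
  have hinj : Function.Injective (fun x : A × B => (⟨(x.1 : V) * x.2,
      C.mul_mem (hA x.1.2) (hB x.2.2)⟩ : C)) :=
    fun x y e => Subgroup.mul_injective_of_disjoint (disjoint_iff.mpr h) (congrArg Subtype.val e)
  have h1 := Nat.card_le_card_of_injective _ hinj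
  rwa [Nat.card_prod, card_eq_pow hV A, card_eq_pow hV B, card_eq_pow hV C, ← pow_add,
    Nat.pow_le_pow_iff_right (Fact.out : p.Prime).one_lt] at h1

/-- One coset of a normal subgroup with commutative image, of order prime to `p`, without common
fixed points. -/
theorem sum_coset_half (hV : IsPGroup p V) (N : Subgroup G) [hNn : N.Normal] [Fintype N]
    (hcomm : ∀ a ∈ N, ∀ b ∈ N, Commute (φ a) (φ b)) (hcop : ∀ a ∈ N, ¬ p ∣ orderOf (φ a))
    (g : G) :
    ∀ W : Subgroup V, (∀ w ∈ W, φ g w ∈ W) → (∀ a ∈ N, ∀ w ∈ W, φ a w ∈ W) →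
      W ⊓ fixAll φ N = ⊥ →
      2 * ∑ n : N, expo p (W ⊓ fix φ (g * n)) ≤ Fintype.card N * expo p W := by
  classical
  have hp : p.Prime := Fact.out
  suffices h : ∀ (k : ℕ) (W : Subgroup V), Nat.card W ≤ k → (∀ w ∈ W, φ g w ∈ W) →
      (∀ a ∈ N, ∀ w ∈ W, φ a w ∈ W) → W ⊓ fixAll φ N = ⊥ →
      2 * ∑ n : N, expo p (W ⊓ fix φ (g * n)) ≤ Fintype.card N * expo p W from
    fun W => h _ W le_rfl
  intro k
  induction k with
  | zero => intro W hW; exact absurd hW (Nat.not_le.mpr Nat.card_pos)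
  | succ k ih =>
    intro W hW hgW hNW hfree
    rcases eq_or_ne W ⊥ with rfl | hne
    · have h0 : expo p (⊥ : Subgroup V) = 0 := by simp [expo]
      simp [h0]
    obtain ⟨a, ha, w₁, hw₁, hmov⟩ : ∃ a ∈ N, ∃ w ∈ W, φ a w ≠ w := by
      by_contra! hcon
      refine hne (eq_bot_iff.mpr fun w hw => hfree ▸ ⟨hw, (mem_fixAll φ).mpr fun a ha => ?_⟩)
      exact hcon a ha w hw
    set T : Set G := Set.range fun i : ℤ => g ^ i * a * (g ^ i)⁻¹ with hT
    set K : Subgroup G := Subgroup.closure T with hK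
    have hTN : T ⊆ (N : Set G) := by
      rintro _ ⟨i, rfl⟩
      exact hNn.conj_mem a ha _
    have hKN : K ≤ N := (Subgroup.closure_le N).mpr hTN
    have haK : a ∈ K := Subgroup.subset_closure ⟨0, by simp⟩
    have hKg : ∀ c ∈ K, g * c * g⁻¹ ∈ K := by
      intro c hc
      have h1 : (MulAut.conj g).toMonoidHom c ∈ K.map (MulAut.conj g).toMonoidHom :=
        Subgroup.mem_map_of_mem _ hc
      have h2 : K.map (MulAut.conj g).toMonoidHom ≤ K := by
        rw [hK, MonoidHom.map_closure, Subgroup.closure_le]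
        rintro _ ⟨_, ⟨i, rfl⟩, rfl⟩
        refine Subgroup.subset_closure ⟨i + 1, ?_⟩
        show g ^ (i + 1) * a * (g ^ (i + 1))⁻¹ = g * (g ^ i * a * (g ^ i)⁻¹) * g⁻¹
        rw [add_comm, zpow_add, zpow_one, mul_inv_rev]
        simp only [mul_assoc]
      exact h2 h1
    set Kim : Subgroup (MulAut V) := K.map φ with hKim
    haveI : Finite Kim := Finite.of_surjective (fun n : (K.subgroupOf N) =>
        (⟨φ ((n : N) : G), Subgroup.mem_map_of_mem φ n.2⟩ : Kim)) (by
      rintro ⟨_, c, hc, rfl⟩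
      exact ⟨⟨⟨c, hKN hc⟩, hc⟩, rfl⟩)
    letI : Fintype Kim := Fintype.ofFinite _
    have hKcop : ¬ p ∣ Nat.card Kim := by
      intro hd
      obtain ⟨x, hx⟩ := exists_prime_orderOf_dvd_card' p hd
      obtain ⟨c, hc, hce⟩ := Subgroup.mem_map.mp x.2
      exact hcop c (hKN hc) (by rw [hce, Subgroup.orderOf_coe, hx])
    have hKmem : ∀ b : Kim, ∃ c ∈ K, φ c = b.1 := fun b => Subgroup.mem_map.mp b.2
    have hKW : ∀ b : Kim, ∀ w ∈ W, b.1 w ∈ W := fun b w hw => by
      obtain ⟨c, hc, hce⟩ := hKmem b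
      exact hce ▸ hNW c (hKN hc) w hw
    -- the projection onto the fixed points of `K`
    let π : V →* V :=
      { toFun := fun v => ∏ b : Kim, b.1 v
        map_one' := by simp
        map_mul' := fun u v => by simp [Finset.prod_mul_distrib] }
    have hπfix : ∀ v, ∀ c ∈ K, φ c (π v) = π v := by
      intro v c hc
      show φ c (∏ b : Kim, b.1 v) = ∏ b : Kim, b.1 v
      rw [map_prod]
      exact Fintype.prod_equiv (Equiv.mulLeft (⟨φ c, Subgroup.mem_map_of_mem φ hc⟩ : Kim)) _ _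
        fun b => rfl
    have hπW : ∀ w ∈ W, π w ∈ W := fun w hw => W.prod_mem fun b _ => hKW b w hw
    set W₁ := W ⊓ fixAll φ K with hW₁
    set W₂ := W ⊓ π.ker with hW₂
    have h12 : W₁ ⊓ W₂ = ⊥ := by
      refine eq_bot_iff.mpr ?_
      rintro v ⟨⟨-, hv⟩, -, hv'⟩
      have h1 : π v = v ^ Nat.card Kim := by
        show ∏ b : Kim, b.1 v = v ^ Nat.card Kim
        rw [Finset.prod_eq_pow_card (b := v), Finset.card_univ, Nat.card_eq_fintype_card]
        intro b _
        obtain ⟨c, hc, hce⟩ := hKmem b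
        exact hce ▸ (mem_fixAll φ).mp hv c hc
      rw [MonoidHom.mem_ker.mp hv'] at h1
      obtain ⟨n, hn⟩ := hV v
      have hg : v ^ Nat.gcd (Nat.card Kim) (p ^ n) = 1 := pow_gcd_eq_one.mpr ⟨h1.symm, hn⟩
      rw [((hp.coprime_iff_not_dvd.mpr hKcop).pow_left n).symm, pow_one] at hg
      exact Subgroup.mem_bot.mpr hg
    -- translates
    have hxK : ∀ (n : N), ∀ c ∈ K, φ (g * n) * φ c * (φ (g * n))⁻¹ ∈ Kim := by
      intro n c hc
      refine ⟨g * c * g⁻¹, hKg c hc, ?_⟩
      rw [map_mul, map_mul, map_mul, map_inv, mul_inv_rev, mul_assoc (φ g) (φ (n : G)),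
        (hcomm _ n.2 c (hKN hc)).eq]
      group
    have hπx : ∀ (n : N) (v : V), φ (g * n) (π v) = π (φ (g * n) v) := by
      intro n v
      have hcl : ∀ b : Kim, φ (g * n) * b.1 * (φ (g * n))⁻¹ ∈ Kim := fun b => by
        obtain ⟨c, hc, hce⟩ := hKmem b
        exact hce ▸ hxK n c hc
      let e : Kim → Kim := fun b => ⟨_, hcl b⟩
      have he : Function.Bijective e := by
        refine (Finite.injective_iff_bijective).mp fun b b' h => Subtype.ext ?_
        exact mul_left_cancel (mul_right_cancel (congrArg Subtype.val h))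
      show φ (g * n) (∏ b : Kim, b.1 v) = ∏ b : Kim, b.1 (φ (g * n) v)
      rw [map_prod]
      refine Fintype.prod_bijective e he _ _ fun b => ?_
      show φ (g * n) (b.1 v) = (φ (g * n) * b.1 * (φ (g * n))⁻¹) (φ (g * n) v)
      simp only [MulAut.mul_apply, MulAut.inv_apply_self]
    have hgW₁ : ∀ w ∈ W₁, φ g w ∈ W₁ := by
      refine fun w hw => ⟨hgW w hw.1, ?_⟩
      refine (mem_fixAll φ).mpr ?_
      intro c hc
      have hK' : K ≤ (MulAction.stabilizer (MulAut V) (φ g w)).comap φ := by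
        rw [hK, Subgroup.closure_le]
        rintro _ ⟨i, rfl⟩
        show φ (g ^ i * a * (g ^ i)⁻¹) (φ g w) = φ g w
        have h1 := (mem_fixAll φ).mp hw.2 (g ^ (i - 1) * a * (g ^ (i - 1))⁻¹)
          (Subgroup.subset_closure ⟨i - 1, rfl⟩)
        have h2 : g ^ i * a * (g ^ i)⁻¹ * g = g * (g ^ (i - 1) * a * (g ^ (i - 1))⁻¹) := by
          rw [show i = 1 + (i - 1) by ring, zpow_add, zpow_one, add_sub_cancel_left]
          group
        rw [← mul_apply', h2, mul_apply', h1]
      exact hK' hc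
    have hNW₁ : ∀ b ∈ N, ∀ w ∈ W₁, φ b w ∈ W₁ := fun b hb w hw => ⟨hNW b hb w hw.1, by
      refine (mem_fixAll φ).mpr ?_
      intro c hc
      rw [← mul_apply', map_mul, (hcomm c (hKN hc) b hb).eq, MulAut.mul_apply,
        (mem_fixAll φ).mp hw.2 c hc]⟩
    have hlt : Nat.card W₁ < Nat.card W := by
      refine lt_of_le_of_ne (Subgroup.card_le_of_le inf_le_left) fun h => hmov ?_
      have : W₁ = W := Subgroup.eq_of_le_of_card_ge inf_le_left h.ge
      exact (mem_fixAll φ).mp (this.ge hw₁).2 a haK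
    have hIH := ih W₁ (by omega) hgW₁ hNW₁
      (eq_bot_iff.mpr fun v hv => hfree ▸ ⟨hv.1.1, hv.2⟩)
    have hterm : ∀ n : N, expo p (W ⊓ fix φ (g * n)) ≤
        expo p (W₁ ⊓ fix φ (g * n)) + expo p (W₂ ⊓ fix φ (g * n)) := by
      intro n
      set F := W ⊓ fix φ (g * n) with hF
      let χ : F →* (W₁ ⊓ fix φ (g * n) : Subgroup V) :=
        { toFun := fun v => ⟨π v, ⟨hπW _ v.2.1, (mem_fixAll φ).mpr fun c hc => hπfix _ c hc⟩, by
            show φ (g * n) (π v) = π v
            rw [hπx, show φ (g * n) (v : V) = v from v.2.2]⟩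
          map_one' := Subtype.ext (map_one π)
          map_mul' := fun u v => Subtype.ext (map_mul π _ _) }
      have h3 := χ.ker.card_mul_index
      rw [Subgroup.index_ker] at h3
      have h4 : Nat.card χ.ker ≤ Nat.card (W₂ ⊓ fix φ (g * n) : Subgroup V) := by
        refine Nat.card_le_card_of_injective (fun x => ⟨(x.1 : V),
          ⟨x.1.2.1, MonoidHom.mem_ker.mpr (congrArg Subtype.val (MonoidHom.mem_ker.mp x.2))⟩,
          x.1.2.2⟩) ?_
        intro x y h
        exact Subtype.ext (Subtype.ext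
          (congrArg (fun t : (W₂ ⊓ fix φ (g * n) : Subgroup V) => (t : V)) h))
      have h5 : Nat.card F ≤ Nat.card (W₂ ⊓ fix φ (g * n) : Subgroup V) *
          Nat.card (W₁ ⊓ fix φ (g * n) : Subgroup V) := by
        rw [← h3]; exact Nat.mul_le_mul h4 (Subgroup.card_le_card_group _)
      rw [card_eq_pow hV F, card_eq_pow hV (W₂ ⊓ fix φ (g * n)),
        card_eq_pow hV (W₁ ⊓ fix φ (g * n)), ← pow_add,
        Nat.pow_le_pow_iff_right hp.one_lt] at h5
      omega
    have hpair : ∀ n : N, expo p (W₂ ⊓ fix φ (g * n)) + expo p (W₂ ⊓ fix φ (g * (n * ⟨a, ha⟩ : N)))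
        ≤ expo p W₂ := by
      intro n
      refine expo_add_le_of_disjoint hV inf_le_left inf_le_left (eq_bot_iff.mpr ?_)
      rintro v ⟨⟨hv2, hv⟩, -, hv'⟩
      refine h12 ▸ ⟨⟨hv2.1, ?_⟩, hv2⟩
      set S := (MulAction.stabilizer (MulAut V) v).comap φ with hS
      have hxS : g * n ∈ S := hv
      have hxaS : g * (n * ⟨a, ha⟩ : N) ∈ S := hv'
      have haS : a ∈ S := by
        have := S.mul_mem (S.inv_mem hxS) hxaS
        rwa [Subgroup.coe_mul, ← mul_assoc g, inv_mul_cancel_left] at this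
      refine (mem_fixAll φ).mpr ?_
      have hle : K ≤ S := by
        rw [hK, Subgroup.closure_le]
        rintro _ ⟨i, rfl⟩
        obtain ⟨m, hm, hme⟩ : ∃ m ∈ N, g ^ i = (g * n) ^ i * m := by
          refine ⟨((g * n) ^ i)⁻¹ * g ^ i, ?_, by group⟩
          rw [← QuotientGroup.eq, QuotientGroup.mk_zpow, QuotientGroup.mk_zpow,
            QuotientGroup.mk_mul_of_mem g n.2]
        have h1 : φ (g ^ i * a * (g ^ i)⁻¹) = φ ((g * n) ^ i * a * ((g * n) ^ i)⁻¹) := by
          rw [hme]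
          simp only [map_mul, map_inv, mul_inv_rev]
          rw [mul_assoc (φ ((g * n) ^ i)) (φ m) (φ a), (hcomm m hm a ha).eq]
          group
        show φ (g ^ i * a * (g ^ i)⁻¹) v = v
        rw [h1]
        exact S.mul_mem (S.mul_mem (S.zpow_mem hxS i) haS) (S.inv_mem (S.zpow_mem hxS i))
      exact fun c hc => hle hc
    have hshift : ∑ n : N, expo p (W₂ ⊓ fix φ (g * (n * ⟨a, ha⟩ : N))) =
        ∑ n : N, expo p (W₂ ⊓ fix φ (g * n)) :=
      Fintype.sum_equiv (Equiv.mulRight (⟨a, ha⟩ : N)) _ _ fun n => rfl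
    have h2 := Finset.sum_le_sum fun n (_ : n ∈ Finset.univ) => hpair n
    rw [Finset.sum_add_distrib, hshift, Finset.sum_const, Finset.card_univ, smul_eq_mul] at h2
    have h1 := Finset.sum_le_sum fun n (_ : n ∈ Finset.univ) => hterm n
    rw [Finset.sum_add_distrib] at h1
    have h3 := Nat.mul_le_mul_left (Fintype.card N)
      (expo_add_le_of_disjoint hV (A := W₁) (B := W₂) (C := W) inf_le_left inf_le_left h12)
    rw [mul_add] at h3
    omega

/-- Solvable image: the average is at most one half. -/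
theorem sum_fix_half [Fintype G] (hV : IsPGroup p V) [Nontrivial V] (hirr : Irr φ) (hnt : φ ≠ 1)
    (hsol : Group.IsSolvable φ.range) :
    2 * ∑ g : G, expo p (fix φ g) ≤ Fintype.card G * expo p (⊤ : Subgroup V) := by
  classical
  obtain ⟨A, hAn, hA1, hAc⟩ : ∃ A : Subgroup φ.range, A.Normal ∧ A ≠ ⊥ ∧
      ∀ a ∈ A, ∀ b ∈ A, a * b = b * a := by
    have hex : ∃ n, derivedSeries φ.range n = ⊥ := hsol.1
    have h0 : Nat.find hex ≠ 0 := by
      intro h
      have := Nat.find_spec hex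
      rw [h, derivedSeries_zero] at this
      exact hnt (φ.range_eq_bot_iff.mp (eq_bot_iff.mpr fun x hx => by
        have := this ▸ Subgroup.mem_top (⟨x, hx⟩ : φ.range)
        exact Subgroup.mem_bot.mpr (congrArg Subtype.val (Subgroup.mem_bot.mp this))))
    obtain ⟨n, hn⟩ := Nat.exists_eq_succ_of_ne_zero h0
    refine ⟨derivedSeries φ.range n, derivedSeries_normal _ n,
      fun h => Nat.find_min hex (by omega) h, fun a ha b hb => ?_⟩
    have hs := Nat.find_spec hex
    rw [hn, derivedSeries_succ] at hs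
    have h1 := Subgroup.mem_bot.mp (hs ▸ Subgroup.commutator_mem_commutator ha hb)
    exact commutatorElement_eq_one_iff_mul_comm.mp h1
  let N : Subgroup G := A.comap φ.rangeRestrict
  haveI : N.Normal := hAn.comap _
  have hN : ∀ a ∈ N, ∀ b ∈ N, Commute (φ a) (φ b) := fun a ha b hb =>
    congrArg Subtype.val (hAc _ ha _ hb)
  have hcop : ∀ a ∈ N, ¬ p ∣ orderOf (φ a) := by
    intro a ha hd
    let P : Subgroup G :=
      { carrier := {b | b ∈ N ∧ ∃ k : ℕ, φ b ^ p ^ k = 1}
        one_mem' := ⟨N.one_mem, 0, by simp⟩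
        mul_mem' := fun {x y} ⟨hx, k, hk⟩ ⟨hy, l, hl⟩ => ⟨N.mul_mem hx hy, k + l, by
          rw [map_mul, (hN x hx y hy).mul_pow, pow_add, pow_mul, hk, one_pow, one_mul, mul_comm,
            pow_mul, hl, one_pow]⟩
        inv_mem' := fun {x} ⟨hx, k, hk⟩ => ⟨N.inv_mem hx, k, by
          rw [map_inv, inv_pow, hk, inv_one]⟩ }
    haveI : P.Normal := ⟨fun x ⟨hx, k, hk⟩ g => ⟨‹N.Normal›.conj_mem x hx g, k, by
      rw [map_mul, map_mul, map_inv, conj_pow, hk, mul_one, mul_inv_cancel]⟩⟩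
    have h := trivial_of_pgroup φ hV hirr P (fun b hb => hb.2) (a ^ (orderOf (φ a) / p))
      ⟨N.pow_mem ha _, 1, by
        rw [pow_one, map_pow, ← pow_mul, Nat.div_mul_cancel hd, pow_orderOf_eq_one]⟩
    rw [map_pow] at h
    exact absurd (orderOf_dvd_of_pow_eq_one h) (Nat.not_dvd_of_pos_of_lt
      (Nat.div_pos (Nat.le_of_dvd (orderOf_pos _) hd) (Fact.out : p.Prime).pos)
      (Nat.div_lt_self (orderOf_pos _) (Fact.out : p.Prime).one_lt))
  have hfree : (⊤ : Subgroup V) ⊓ fixAll φ N = ⊥ := by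
    rw [top_inf_eq]
    refine (hirr _ fun g w hw => fixAll_invariant φ N g w hw).resolve_right fun h => hA1 ?_
    refine eq_bot_iff.mpr fun x hx => ?_
    obtain ⟨g, hg⟩ := φ.rangeRestrict_surjective x
    refine Subgroup.mem_bot.mpr (Subtype.ext ?_)
    rw [← hg]
    exact MulEquiv.ext fun v => (mem_fixAll φ).mp (h ▸ Subgroup.mem_top v) g
      (Subgroup.mem_comap.mpr (hg ▸ hx))
  have hcoset : ∀ g : G, 2 * ∑ n : N, expo p (fix φ (g * n)) ≤
      Fintype.card N * expo p (⊤ : Subgroup V) := fun g => by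
    have h := sum_coset_half φ hV N hN hcop g ⊤ (fun _ _ => Subgroup.mem_top _)
      (fun _ _ _ _ => Subgroup.mem_top _) hfree
    simpa only [top_inf_eq] using h
  have e1 : ∀ n : N, ∑ g : G, expo p (fix φ (g * n)) = ∑ g : G, expo p (fix φ g) := fun n =>
    Fintype.sum_equiv (Equiv.mulRight (n : G)) _ _ fun g => rfl
  have h := Finset.sum_le_sum fun g (_ : g ∈ Finset.univ) => hcoset g
  rw [← Finset.mul_sum, Finset.sum_comm, Finset.sum_congr rfl fun n _ => e1 n, Finset.sum_const,
    Finset.sum_const, Finset.card_univ, Finset.card_univ, smul_eq_mul, smul_eq_mul] at h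
  refine Nat.le_of_mul_le_mul_left (c := Fintype.card N) ?_ Fintype.card_pos
  nlinarith

end Cfsg.Agent.PrimClass
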