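import Cfsg.Agent.PrimClass.Avg
import Cfsg.Agent.CharDeep.Ext.GoingDown
import Cfsg.Agent.CharDeep.Ext.Inertia
import Cfsg.Agent.Lib.Fitting
import Cfsg.Agent.Lib.CharClifford.Central

/-!
# Degrees of primitive characters of solvable groups against class sizes

Along a chief series a primitive character restricts homogeneously, so its degree is built from the
fully ramified chief factors; each of them contributes to the class of an element through the
subgroup of its fixed points.
-/

set_option autoImplicit false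
set_option linter.unusedSectionVars false

open Cfsg

namespace Cfsg.Agent.PrimClass

universe u

variable {G : Type u} [Group G] [Fintype G]

/-- Conjugation on a normal subgroup of a quotient. -/
noncomputable def act {L : Subgroup G} [L.Normal] (V : Subgroup (G ⧸ L)) [V.Normal] :
    G →* MulAut V :=
  (MulAut.conjNormal).comp (QuotientGroup.mk' L)

/-- The fixed point exponent in a section. -/
noncomputable def dfix (p : ℕ) {L : Subgroup G} [L.Normal] (V : Subgroup (G ⧸ L)) [V.Normal]
    (g : G) : ℕ :=
  (Nat.card {v : V // act V g v = v}).factorization p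

/-- A commutative group structure on a commutative subgroup. -/
abbrev commOf {H : Type u} [Group H] (V : Subgroup H) (hc : ∀ a b : V, a * b = b * a) :
    CommGroup V := { (inferInstance : Group V) with mul_comm := hc }

/-- `V` is an irreducible section. -/
def IsMinimal {H : Type u} [Group H] (V : Subgroup H) : Prop :=
  V ≠ ⊥ ∧ ∀ W : Subgroup H, W.Normal → W ≤ V → W = ⊥ ∨ W = V

theorem act_coe {L : Subgroup G} [L.Normal] (V : Subgroup (G ⧸ L)) [V.Normal] (g : G) (v : V) :
    (act V g v : G ⧸ L) = QuotientGroup.mk' L g * v * (QuotientGroup.mk' L g)⁻¹ := rfl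

theorem irr_of_minimal {L : Subgroup G} [L.Normal] (V : Subgroup (G ⧸ L)) [V.Normal]
    (hc : ∀ a b : V, a * b = b * a) (hV : IsMinimal V) :
    letI := commOf V hc
    Irr (act V) := by
  intro W hW
  have hn : (W.map V.subtype).Normal := ⟨by
    rintro _ ⟨w, hw, rfl⟩ g
    obtain ⟨g, rfl⟩ := QuotientGroup.mk'_surjective L g
    exact ⟨act V g w, hW g w hw, rfl⟩⟩
  rcases hV.2 _ hn (Subgroup.map_subtype_le W) with h | h
  · left
    exact (W.map_eq_bot_iff_of_injective V.subtype_injective).mp h
  · right
    refine Subgroup.map_injective V.subtype_injective ?_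
    rw [h, ← MonoidHom.range_eq_map, Subgroup.range_subtype]

/-- The fixed point count in a section bounds the growth of a centraliser index. -/
theorem factorization_centralizer_le (p : ℕ) [Fact p.Prime] {L : Subgroup G} [L.Normal]
    (K : Subgroup G) (hLK : L ≤ K) (V : Subgroup (G ⧸ L)) [V.Normal]
    (hV : V = K.map (QuotientGroup.mk' L)) (g : G) :
    ((Subgroup.centralizer ({g} : Set G)).relIndex L).factorization p +
        (Nat.card V).factorization p ≤
      ((Subgroup.centralizer ({g} : Set G)).relIndex K).factorization p + dfix p V g := by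
  set C := Subgroup.centralizer ({g} : Set G) with hC
  set π := QuotientGroup.mk' L with hπ
  have hcardK : Nat.card K = Nat.card L * Nat.card V := by
    have h := (π.comp K.subtype).ker.card_mul_index
    rw [Subgroup.index_ker, MonoidHom.range_comp, Subgroup.range_subtype, ← hV] at h
    rw [← h]
    congr 1
    refine Nat.card_congr
      { toFun := fun x => ⟨(x : K), (QuotientGroup.eq_one_iff _).mp (MonoidHom.mem_ker.mp x.2)⟩
        invFun := fun x => ⟨⟨x, hLK x.2⟩, MonoidHom.mem_ker.mpr ((QuotientGroup.eq_one_iff _).mpr x.2)⟩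
        left_inv := fun x => rfl
        right_inv := fun x => rfl }
  set ψ := π.comp (C ⊓ K).subtype with hψ
  have hker : Nat.card ψ.ker = Nat.card (C ⊓ L : Subgroup G) := Nat.card_congr
    { toFun := fun x => ⟨((x : ↥(C ⊓ K)) : G), (x : ↥(C ⊓ K)).2.1,
        (QuotientGroup.eq_one_iff _).mp (MonoidHom.mem_ker.mp x.2)⟩
      invFun := fun x => ⟨⟨x, x.2.1, hLK x.2.2⟩,
        MonoidHom.mem_ker.mpr ((QuotientGroup.eq_one_iff _).mpr x.2.2)⟩
      left_inv := fun x => rfl
      right_inv := fun x => rfl }
  have hrd : Nat.card ψ.range ∣ Nat.card {v : V // act V g v = v} := by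
    have e : Nat.card {v : V // act V g v = v} =
        Nat.card (V ⊓ Subgroup.centralizer ({π g} : Set (G ⧸ L)) : Subgroup (G ⧸ L)) :=
      Nat.card_congr
      { toFun := fun v => ⟨(v : V), (v : V).2, Subgroup.mem_centralizer_singleton_iff.mpr (by
          have h := congrArg Subtype.val v.2
          rw [act_coe, mul_inv_eq_iff_eq_mul] at h
          exact h.symm)⟩
        invFun := fun x => ⟨⟨x, x.2.1⟩, Subtype.ext (by
          rw [act_coe, mul_inv_eq_iff_eq_mul]
          exact (Subgroup.mem_centralizer_singleton_iff.mp x.2.2).symm)⟩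
        left_inv := fun v => rfl
        right_inv := fun v => rfl }
    rw [e]
    refine Subgroup.card_dvd_of_le ?_
    rintro _ ⟨x, rfl⟩
    refine ⟨hV ▸ ⟨(x : G), x.2.2, rfl⟩, Subgroup.mem_centralizer_singleton_iff.mpr ?_⟩
    show π x * π g = π g * π x
    rw [← map_mul, ← map_mul, Subgroup.mem_centralizer_singleton_iff.mp x.2.1]
  have h1 := ψ.ker.card_mul_index
  rw [Subgroup.index_ker, hker] at h1
  have hrel : ∀ M : Subgroup G, C.relIndex M * Nat.card (C ⊓ M : Subgroup G) = Nat.card M := by
    intro M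
    rw [← Subgroup.inf_relIndex_right, Subgroup.relIndex, mul_comm]
    have e := Nat.card_congr (Subgroup.subgroupOfEquivOfLe (inf_le_right : C ⊓ M ≤ M)).toEquiv
    rw [← e]
    exact Subgroup.card_mul_index _
  have hmain : C.relIndex K * Nat.card ψ.range = C.relIndex L * Nat.card V := by
    have hK := hrel K
    rw [hcardK, ← h1, ← hrel L] at hK
    refine mul_left_cancel₀ (Nat.card_pos (α := ↥(C ⊓ L))).ne' ?_
    linarith
  have e1 := congrArg (fun n => n.factorization p) hmain
  have hne : ∀ M : Subgroup G, C.relIndex M ≠ 0 := fun M => by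
    rw [Subgroup.relIndex]; exact Subgroup.index_ne_zero_of_finite
  simp only [Nat.factorization_mul (hne _) Nat.card_pos.ne', Finsupp.add_apply] at e1
  haveI : Nonempty {v : V // act V g v = v} := ⟨⟨1, map_one _⟩⟩
  have e2 := (Nat.factorization_le_iff_dvd Nat.card_pos.ne' Nat.card_pos.ne').mpr hrd p
  unfold dfix
  omega

/-- Nilpotent normal subgroups centralise minimal normal subgroups. -/
theorem commutator_eq_bot_of_minimal {H : Type u} [Group H] (V F : Subgroup H) [V.Normal]
    [F.Normal] (hV : IsMinimal V) (hF : Group.IsNilpotent F) : ⁅V, F⁆ = ⊥ := by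
  rcases hV.2 _ inferInstance (inf_le_left : V ⊓ F ≤ V) with h | h
  · exact eq_bot_iff.mpr ((Subgroup.commutator_le_inf V F).trans h.le)
  rcases hV.2 _ inferInstance (Subgroup.commutator_le_left V F) with h1 | h1
  · exact h1
  obtain ⟨n, hn⟩ := (Subgroup.isNilpotent_iff_lowerCentralSeries F).mp hF
  have hle : ∀ k, V ≤ F.lowerCentralSeries k := by
    intro k
    induction k with
    | zero => exact h ▸ inf_le_right
    | succ k ih =>
      rw [Subgroup.lowerCentralSeries_succ, ← h1]
      exact Subgroup.commutator_mono ih le_rfl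
  exact absurd (eq_bot_iff.mpr (hn ▸ hle n)) hV.1

/-- Primitivity. -/
def IsPrimitive (χ : G → ℂ) : Prop :=
  ¬ ∃ (H : Subgroup G), H ≠ ⊤ ∧ ∃ θ : ↥H → ℂ, Cfsg.IsCharacter ↥H θ ∧ Cfsg.indFun H θ = χ

theorem homogeneous {χ : G → ℂ} (hχ : Cfsg.IsIrrCharacter G χ) (hprim : IsPrimitive χ)
    (N : Subgroup G) [N.Normal] [Fintype N] {φ : N → ℂ} (hφ : Cfsg.IsIrrCharacter N φ)
    (hne : Cfsg.classInner (fun n : N => χ n) φ ≠ 0) :
    (fun n : N => χ n) = Cfsg.classInner (fun n : N => χ n) φ • φ := by
  classical
  have hcl := CharCore.IsCharacter.isClassFunction (CharCore.IsIrrCharacter.isCharacter hφ)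
  let T : Subgroup G :=
    { carrier := {g | ∀ n : N, φ ⟨g * n * g⁻¹, ‹N.Normal›.conj_mem (n : G) n.2 g⟩ = φ n}
      one_mem' := fun n => congrArg φ (Subtype.ext (by simp))
      mul_mem' := fun {a b} ha hb n => by
        rw [← hb n, ← ha ⟨b * n * b⁻¹, ‹N.Normal›.conj_mem (n : G) n.2 b⟩]
        exact congrArg φ (Subtype.ext (by simp [mul_assoc]))
      inv_mem' := fun {a} ha n => by
        rw [← ha ⟨a⁻¹ * n * a⁻¹⁻¹, ‹N.Normal›.conj_mem (n : G) n.2 a⁻¹⟩]
        exact congrArg φ (Subtype.ext (by simp [mul_assoc])) }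
  have hNT : N ≤ T := fun g hg n => (congrArg φ (Subtype.ext (by simp))).trans (hcl n ⟨g, hg⟩)
  have hT : T = ⊤ := by
    by_contra hT
    obtain ⟨ψ, hψ, hind, -⟩ :=
      CharDeep.Ext.exists_inertia_induced N hφ T (fun g => Iff.rfl) hNT hχ hne
    exact hprim ⟨T, hT, ψ, CharCore.IsIrrCharacter.isCharacter hψ, hind⟩
  exact CharDeep.Ext.restrict_eq_smul N (fun g n => (hT ▸ Subgroup.mem_top g : g ∈ T) n) hφ hχ hne

/-- The hypothesis on the sections: enough moved points, and `S` acts trivially. -/
def SectionBound (G : Type u) [Group G] [Fintype G] (p b : ℕ) (S : Set G) : Prop :=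
  ∀ (L : Subgroup G) (_ : L.Normal) (V : Subgroup (G ⧸ L)) (_ : V.Normal)
    (hc : ∀ a b : V, a * b = b * a), IsMinimal V → IsPGroup p V →
    letI := commOf V hc
    act V ≠ 1 →
      (Fintype.card G * (Nat.card V).factorization p + b * ∑ g : G, dfix p V g ≤
          b * (Fintype.card G * (Nat.card V).factorization p)) ∧
        ∀ s ∈ S, act V s = 1

theorem exists_weight (p b : ℕ) [Fact p.Prime] (S : Set G) (hsec : SectionBound G p b S)
    (hsol : Group.IsSolvable G) {χ : G → ℂ} (hχ : Cfsg.IsIrrCharacter G χ)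
    (hprim : IsPrimitive χ) : ∀ (K : Subgroup G), K.Normal → ∀ (θ : K → ℂ),
      Cfsg.IsIrrCharacter K θ → ∀ e : ℕ, e ≠ 0 → (∀ n : K, χ n = (e : ℂ) * θ n) →
      ∀ d : ℕ, θ 1 = d → ∃ f : G → ℕ,
        (∀ g, f g ≤ ((Subgroup.centralizer ({g} : Set G)).relIndex K).factorization p) ∧
        (∀ s ∈ S, ∀ g, f (s * g) = f g ∧ f (g * s) = f g) ∧
        Fintype.card G * (2 * d.factorization p) ≤ b * ∑ g : G, f g := by
  suffices h : ∀ (k : ℕ) (K : Subgroup G), Nat.card K ≤ k → K.Normal → ∀ (θ : K → ℂ),
      Cfsg.IsIrrCharacter K θ → ∀ e : ℕ, e ≠ 0 → (∀ n : K, χ n = (e : ℂ) * θ n) →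
      ∀ d : ℕ, θ 1 = d → ∃ f : G → ℕ,
        (∀ g, f g ≤ ((Subgroup.centralizer ({g} : Set G)).relIndex K).factorization p) ∧
        (∀ s ∈ S, ∀ g, f (s * g) = f g ∧ f (g * s) = f g) ∧
        Fintype.card G * (2 * d.factorization p) ≤ b * ∑ g : G, f g from
    fun K => h _ K le_rfl
  intro k
  induction k with
  | zero => intro K hK; exact absurd hK (Nat.not_le.mpr Nat.card_pos)
  | succ k ih =>
    intro K hK hKn θ hθ e he hres d hd
    classical
    rcases eq_or_ne K ⊥ with rfl | hKne
    · refine ⟨fun _ => 0, fun _ => Nat.zero_le _, fun _ _ _ => ⟨rfl, rfl⟩, ?_⟩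
      obtain ⟨D, -, hdvd, hD⟩ := CharClifford.exists_degree_dvd_card hθ
      have : d = 1 := by
        have h1 : D = d := by exact_mod_cast (hD.symm.trans hd)
        rw [Subgroup.card_bot, Nat.dvd_one] at hdvd
        omega
      simp [this]
    have hfin : {M : Subgroup G | M.Normal ∧ M < K}.Finite := Set.toFinite _
    obtain ⟨L, hL⟩ := hfin.exists_maximal ⟨⊥, inferInstance, bot_lt_iff_ne_bot.mpr hKne⟩
    obtain ⟨hLn, hLK⟩ := hL.1
    set π := QuotientGroup.mk' L with hπ
    set V := K.map π with hV
    haveI : V.Normal := hKn.map π (QuotientGroup.mk'_surjective L)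
    have hmin : IsMinimal V := by
      refine ⟨fun h => hLK.not_ge ?_, fun W hW hWV => ?_⟩
      · rw [hV, Subgroup.map_eq_bot_iff, QuotientGroup.ker_mk'] at h
        exact h
      · have h1 : L ≤ W.comap π := fun x hx => by
          rw [Subgroup.mem_comap, show π x = 1 from (QuotientGroup.eq_one_iff x).mpr hx]
          exact W.one_mem
        have h2 : W.comap π ≤ K := by
          refine (Subgroup.comap_mono hWV).trans_eq ?_
          rw [hV, Subgroup.comap_map_eq, QuotientGroup.ker_mk', sup_eq_left.mpr hLK.le]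
        rcases h2.eq_or_lt with h3 | h3
        · right
          rw [hV, ← h3, Subgroup.map_comap_eq_self_of_surjective (QuotientGroup.mk'_surjective L)]
        · left
          have h4 : W.comap π ≤ L := hL.2 (y := W.comap π) ⟨hW.comap π, h3⟩ h1
          rw [eq_bot_iff]
          intro w hw
          obtain ⟨x, rfl⟩ := QuotientGroup.mk'_surjective L w
          exact Subgroup.mem_bot.mpr ((QuotientGroup.eq_one_iff x).mpr (h4 hw))
    have hcomm : ⁅V, V⁆ = ⊥ := by
      rcases hmin.2 _ inferInstance (Subgroup.commutator_le_left V V) with h | h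
      · exact h
      · haveI := hsol
        exact absurd h (IsSolvable.commutator_lt_of_ne_bot hmin.1).ne
    have hc : ∀ a b : V, a * b = b * a := fun a b =>
      Subtype.ext (commutatorElement_eq_one_iff_mul_comm.mp
        (Subgroup.mem_bot.mp (hcomm ▸ Subgroup.commutator_mem_commutator a.2 b.2)))
    letI := commOf V hc
    have hchief : ∀ M : Subgroup G, M.Normal → L ≤ M → M ≤ K → M = L ∨ M = K := by
      intro M hM hLM hMK
      rcases hMK.eq_or_lt with h | h
      · exact Or.inr h
      · exact Or.inl (le_antisymm (hL.2 (y := M) ⟨hM, h⟩ hLM) hLM)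
    have hab : ⁅K, K⁆ ≤ L := by
      intro x hx
      have : π x ∈ (⁅K, K⁆).map π := ⟨x, hx, rfl⟩
      rw [Subgroup.map_commutator, ← hV, hcomm, Subgroup.mem_bot] at this
      exact (QuotientGroup.eq_one_iff x).mp this
    have hinv : ∀ (g : G) (n : K), θ ⟨g * n * g⁻¹, hKn.conj_mem (n : G) n.2 g⟩ = θ n := by
      intro g n
      refine mul_left_cancel₀ (Nat.cast_ne_zero.mpr he : (e : ℂ) ≠ 0) ?_
      rw [← hres, ← hres]
      exact CharCore.IsCharacter.isClassFunction (CharCore.IsIrrCharacter.isCharacter hχ) n g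
    have hcardL : Nat.card L ≤ k := by
      have h1 := Subgroup.card_le_of_le hLK.le
      have h2 : Nat.card L ≠ Nat.card K := fun h => hLK.ne (Subgroup.eq_of_le_of_card_ge hLK.le h.ge)
      omega
    have hmono : ∀ g, ((Subgroup.centralizer ({g} : Set G)).relIndex L).factorization p ≤
        ((Subgroup.centralizer ({g} : Set G)).relIndex K).factorization p := by
      intro g
      have h := factorization_centralizer_le p K hLK.le V hV g
      have : dfix p V g ≤ (Nat.card V).factorization p :=
        (Nat.factorization_le_iff_dvd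
          (haveI : Nonempty {v : V // act V g v = v} := ⟨⟨1, map_one _⟩⟩; Nat.card_pos.ne')
          Nat.card_pos.ne').mpr (Subgroup.card_subgroup_dvd_card (fix (act V) g)) p
      omega
    rcases CharDeep.Ext.going_down K L hLK.le hchief hab θ hθ hinv with h | ⟨φ, e', hφ, h1, h2⟩ |
        ⟨F, hF, hFc, h1⟩
    · obtain ⟨f, hf1, hf2, hf3⟩ := ih L hcardL hLn _ h e he
        (fun n => hres ⟨n, hLK.le n.2⟩) d (hd ▸ congrArg θ (Subtype.ext rfl))
      exact ⟨f, fun g => (hf1 g).trans (hmono g), hf2, hf3⟩
    · have hVcard : Nat.card V = L.relIndex K := by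
        have hk : (π.comp K.subtype).ker = L.subgroupOf K := by
          ext x
          exact QuotientGroup.eq_one_iff (x : G)
        rw [Subgroup.relIndex, ← hk, Subgroup.index_ker, MonoidHom.range_comp, Subgroup.range_subtype, hV]
      have he' : e' ≠ 0 := fun h => by
        rw [h, zero_pow two_ne_zero] at h2
        exact Nat.card_pos.ne' (hVcard.trans h2.symm)
      obtain ⟨d', hd'⟩ := CharCore.IsIrrCharacter.exists_degree hφ
      have hdd : d = e' * d' := by
        have h3 := congrFun h1 1
        simp only [Pi.smul_apply, smul_eq_mul, hd'.2] at h3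
        have h4 : θ ⟨((1 : L) : G), hLK.le (1 : L).2⟩ = θ 1 := congrArg θ (Subtype.ext rfl)
        rw [h4, hd] at h3
        exact_mod_cast h3
      obtain ⟨f, hf1, hf2, hf3⟩ := ih L hcardL hLn φ hφ (e * e') (mul_ne_zero he he') (fun n => by
        rw [hres ⟨n, hLK.le n.2⟩, congrFun h1 n, Pi.smul_apply, smul_eq_mul]
        push_cast; ring) d' hd'.2
      have hd0 : d' ≠ 0 := hd'.1.ne'
      have hfac : 2 * d.factorization p = (Nat.card V).factorization p + 2 * d'.factorization p := by
        rw [hdd, Nat.factorization_mul he' hd0, Finsupp.add_apply, hVcard, ← h2,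
          Nat.factorization_pow, Finsupp.smul_apply, smul_eq_mul]
        ring
      by_cases hz : (Nat.card V).factorization p = 0
      · refine ⟨f, fun g => (hf1 g).trans (hmono g), hf2, ?_⟩
        rw [hfac, hz, zero_add]; exact hf3
      have hp : IsPGroup p V := by
        have hpd : p ∣ Nat.card V := Nat.dvd_of_factorization_pos hz
        obtain ⟨v, hv⟩ := exists_prime_orderOf_dvd_card' p hpd
        let W : Subgroup V :=
          { carrier := {w | ∃ j : ℕ, w ^ p ^ j = 1}
            one_mem' := ⟨0, one_pow _⟩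
            mul_mem' := fun {x y} ⟨i, hi⟩ ⟨j, hj⟩ => ⟨i + j, by
              rw [mul_pow, pow_add, pow_mul, hi, one_pow, one_mul, mul_comm, pow_mul, hj, one_pow]⟩
            inv_mem' := fun {x} ⟨i, hi⟩ => ⟨i, by rw [inv_pow, hi, inv_one]⟩ }
        rcases irr_of_minimal V hc hmin W (fun g w ⟨i, hi⟩ => ⟨i, by rw [← map_pow, hi, map_one]⟩)
          with hW | hW
        · have : v = 1 := Subgroup.mem_bot.mp (hW ▸ (⟨1, by rw [pow_one, ← hv, pow_orderOf_eq_one]⟩ :
            v ∈ W))
          rw [this, orderOf_one] at hv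
          exact absurd hv (Fact.out : p.Prime).one_lt.ne
        · intro x
          exact (hW ▸ Subgroup.mem_top x : x ∈ W)
      have hnt : act V ≠ 1 := by
        intro htriv
        have hsq : Nat.card V = e' ^ 2 := hVcard.trans h2.symm
        have hpd : p ∣ Nat.card V := Nat.dvd_of_factorization_pos hz
        obtain ⟨v, hv⟩ := exists_prime_orderOf_dvd_card' p hpd
        rcases irr_of_minimal V hc hmin (Subgroup.zpowers v) (fun g w hw => by
          rw [htriv]; exact hw) with hW | hW
        · rw [Subgroup.zpowers_eq_bot] at hW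
          rw [hW, orderOf_one] at hv
          exact absurd hv (Fact.out : p.Prime).one_lt.ne
        · have : Nat.card V = p := by rw [← hv, ← Nat.card_zpowers, hW, Subgroup.card_top]
          exact (Fact.out : p.Prime).not_isSquare ⟨e', by rw [← this, hsq, sq]⟩
      obtain ⟨hb, hS⟩ := hsec L hLn V inferInstance hc hmin hp hnt
      have hdle : ∀ g, dfix p V g ≤ (Nat.card V).factorization p := fun g =>
        (Nat.factorization_le_iff_dvd
          (haveI : Nonempty {v : V // act V g v = v} := ⟨⟨1, map_one _⟩⟩; Nat.card_pos.ne')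
          Nat.card_pos.ne').mpr (Subgroup.card_subgroup_dvd_card (fix (act V) g)) p
      refine ⟨fun g => f g + ((Nat.card V).factorization p - dfix p V g), fun g => ?_,
        fun s hs g => ?_, ?_⟩
      · show f g + ((Nat.card V).factorization p - dfix p V g) ≤ _
        have := factorization_centralizer_le p K hLK.le V hV g
        have := hf1 g
        have := hdle g
        omega
      · have e1 : dfix p V (s * g) = dfix p V g := by
          unfold dfix; rw [map_mul, hS s hs, one_mul]
        have e2 : dfix p V (g * s) = dfix p V g := by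
          unfold dfix; rw [map_mul, hS s hs, mul_one]
        simp only [e1, e2, (hf2 s hs g).1, (hf2 s hs g).2, and_self]
      · rw [hfac, mul_add, Finset.sum_add_distrib, mul_add]
        have h5 : b * ∑ g : G, ((Nat.card V).factorization p - dfix p V g) +
            b * ∑ g : G, dfix p V g = b * (Fintype.card G * (Nat.card V).factorization p) := by
          rw [← mul_add, ← Finset.sum_add_distrib,
            Finset.sum_congr rfl fun g _ => Nat.sub_add_cancel (hdle g), Finset.sum_const,
            Finset.card_univ, smul_eq_mul]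
        omega
    · exfalso
      haveI := Fintype.ofFinite L
      have h2c : 1 < F.card := by
        rw [hFc]
        have h0 : L.relIndex K ≠ 1 := fun h => hLK.not_ge (Subgroup.relIndex_eq_one.mp h)
        have h1' : L.relIndex K ≠ 0 := by
          rw [Subgroup.relIndex]; exact Subgroup.index_ne_zero_of_finite
        omega
      obtain ⟨φ₁, hφ₁, φ₂, hφ₂, hne⟩ := Finset.one_lt_card.mp h2c
      have hinner : ∀ ψ ∈ F, Cfsg.classInner (fun n : L => χ n) ψ = (e : ℂ) := by
        intro ψ hψ
        have h3 : (fun n : L => χ n) = (e : ℂ) • ∑ φ ∈ F, φ := by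
          rw [← h1]; funext n; exact hres ⟨n, hLK.le n.2⟩
        rw [h3, CharCore.classInner_smul_left, CharCore.classInner_sum_left,
          Finset.sum_eq_single ψ
            (fun φ hφ hφne => CharCore.classInner_irr_of_ne (χ := ⟨φ, hF φ hφ⟩) (ψ := ⟨ψ, hF ψ hψ⟩)
              fun h => hφne (congrArg Subtype.val h)) (fun h => absurd hψ h),
          (CharCore.isIrrCharacter_iff.mp (hF ψ hψ)).2, mul_one]
      have he0 : (e : ℂ) ≠ 0 := Nat.cast_ne_zero.mpr he
      have h4 := homogeneous hχ hprim L (hF φ₁ hφ₁) (hinner φ₁ hφ₁ ▸ he0)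
      have h5 := hinner φ₂ hφ₂
      rw [h4, CharCore.classInner_smul_left,
        CharCore.classInner_irr_of_ne (χ := ⟨φ₁, hF φ₁ hφ₁⟩) (ψ := ⟨φ₂, hF φ₂ hφ₂⟩)
          (fun h => hne (congrArg Subtype.val h)), mul_zero] at h5
      exact he0 h5.symm

/-- The weight of the whole group. -/
theorem exists_weight_top (p b : ℕ) [Fact p.Prime] (S : Set G) (hsec : SectionBound G p b S)
    (hsol : Group.IsSolvable G) (χ : Cfsg.IrrCharacter G) (hprim : IsPrimitive (χ : G → ℂ)) :
    ∃ f : G → ℕ,
      (∀ g, f g ≤ ((Subgroup.centralizer ({g} : Set G)).index).factorization p) ∧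
      (∀ s ∈ S, ∀ g, f (s * g) = f g ∧ f (g * s) = f g) ∧
      ∃ g₀ : G, 2 * (Cfsg.charDegree (χ : G → ℂ)).factorization p ≤ b * f g₀ := by
  have hθ : Cfsg.IsIrrCharacter (⊤ : Subgroup G) (fun n : (⊤ : Subgroup G) => (χ : G → ℂ) n) :=
    CharCore.isIrrCharacter_comp_surjective χ.2 (Subgroup.topEquiv (G := G)).toMonoidHom
      (Subgroup.topEquiv (G := G)).surjective
  obtain ⟨D, hD⟩ := CharCore.IsIrrCharacter.exists_degree χ.2
  have hdeg : Cfsg.charDegree (χ : G → ℂ) = D := by
    rw [Cfsg.charDegree, hD.2, Complex.natCast_re, Nat.floor_natCast]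
  obtain ⟨f, hf1, hf2, hf3⟩ := exists_weight p b S hsec hsol χ.2 hprim ⊤ inferInstance _ hθ 1
    one_ne_zero (fun n => by simp) D hD.2
  refine ⟨f, fun g => by rw [← Subgroup.relIndex_top_right]; exact hf1 g, hf2, ?_⟩
  rw [hdeg]
  by_contra! hcon
  have h := Finset.sum_lt_sum_of_nonempty Finset.univ_nonempty fun g (_ : g ∈ Finset.univ) => hcon g
  rw [← Finset.mul_sum, Finset.sum_const, Finset.card_univ, smul_eq_mul] at h
  omega

end Cfsg.Agent.PrimClass
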